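import Groth.Agent.Lib.Unram.SmoothLift
import Mathlib.RingTheory.RingHom.Smooth
import Mathlib.RingTheory.RingHom.StandardSmooth

/-!
# Formal smooth liftings of homomorphisms of smooth algebras (helper92)

Given a surjection `π : A → B` with kernel `I`, standard smooth `B`-algebras `C`, `D` and an
`A`-algebra map `φ : C → D`, there are smooth `A`-algebras `T`, `R` reducing to `C`, `D` and a
compatible family of lifts `T → R ⧸ (I R)^(n+1)` of `φ`.
-/

universe u

namespace Groth.Agent.FL92.AlgLift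

/-- Smooth lift of a standard smooth algebra along a surjection. -/
theorem exists_lift_hom {A B C : Type u} [CommRing A] [CommRing B] [CommRing C] (π : A →+* B)
    (hπ : Function.Surjective π) (β : B →+* C) (hβ : β.IsStandardSmooth) :
    ∃ (L : Type u) (_ : CommRing L) (g : A →+* L) (ψ : L →+* C),
      g.Smooth ∧ Function.Surjective ψ ∧ RingHom.ker ψ = (RingHom.ker π).map g ∧
        ψ.comp g = β.comp π := by
  have h2 : (β.comp (RingHom.quotientKerEquivOfSurjective hπ).toRingHom).IsStandardSmooth :=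
    RingHom.isStandardSmooth_respectsIso.2 β _ hβ
  let aQ : Algebra (A ⧸ RingHom.ker π) C :=
    (β.comp (RingHom.quotientKerEquivOfSurjective hπ).toRingHom).toAlgebra
  let aA : Algebra A C := (β.comp π).toAlgebra
  have : IsScalarTower A (A ⧸ RingHom.ker π) C := IsScalarTower.of_algebraMap_eq' rfl
  have : Algebra.IsStandardSmooth (A ⧸ RingHom.ker π) C := h2
  obtain ⟨L, _, _, hL, ψ, hs, hk⟩ :=
    Lib.Unram.SmoothLift.exists_standardSmooth_lift (RingHom.ker π) C
  exact ⟨L, inferInstance, algebraMap A L, ψ.toRingHom, RingHom.smooth_algebraMap.mpr hL, hs, hk,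
    ψ.comp_algebraMap⟩

section Tower

variable {A : Type u} [CommRing A] {T R : Type u} [CommRing T] [CommRing R] [Algebra A T]
  [Algebra A R] [Algebra.FormallySmooth A T] (J : Ideal R)

theorem isNilpotent_ker_factor (n : ℕ) :
    IsNilpotent (RingHom.ker (Ideal.Quotient.factorₐ A
      (Ideal.pow_le_pow_right (Nat.le_succ (n + 1)) : J ^ (n + 1 + 1) ≤ J ^ (n + 1)) :
        (R ⧸ J ^ (n + 1 + 1)) →+* R ⧸ J ^ (n + 1))) := by
  refine ⟨2, ?_⟩
  have h : RingHom.ker (Ideal.Quotient.factor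
      (Ideal.pow_le_pow_right (Nat.le_succ (n + 1)) : J ^ (n + 1 + 1) ≤ J ^ (n + 1))) =
      (J ^ (n + 1)).map (Ideal.Quotient.mk (J ^ (n + 1 + 1))) := Ideal.Quotient.factor_ker _
  change RingHom.ker (Ideal.Quotient.factor (Ideal.pow_le_pow_right (Nat.le_succ (n + 1)) : J ^ (n + 1 + 1) ≤ J ^ (n + 1))) ^ 2 = 0
  rw [h, ← Ideal.map_pow, Ideal.zero_eq_bot, Ideal.map_eq_bot_iff_le_ker, Ideal.mk_ker, ← pow_mul]
  exact Ideal.pow_le_pow_right (by omega)

/-- The tower of lifts. -/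
noncomputable def lifts (θ₀ : T →ₐ[A] R ⧸ J ^ (0 + 1)) : ∀ n : ℕ, T →ₐ[A] R ⧸ J ^ (n + 1)
  | 0 => θ₀
  | n + 1 => Algebra.FormallySmooth.liftOfSurjective (lifts θ₀ n)
      (Ideal.Quotient.factorₐ A
        (Ideal.pow_le_pow_right (Nat.le_succ (n + 1)) : J ^ (n + 1 + 1) ≤ J ^ (n + 1)))
      (Ideal.Quotient.factor_surjective
        (Ideal.pow_le_pow_right (Nat.le_succ (n + 1)) : J ^ (n + 1 + 1) ≤ J ^ (n + 1)))
      (isNilpotent_ker_factor (A := A) J n)

theorem factor_lifts (θ₀ : T →ₐ[A] R ⧸ J ^ (0 + 1)) (n : ℕ) (t : T) :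
    Ideal.Quotient.factor (Ideal.pow_le_pow_right (Nat.le_succ (n + 1)) : J ^ (n + 1 + 1) ≤ J ^ (n + 1))
      (lifts J θ₀ (n + 1) t) = lifts J θ₀ n t :=
  Algebra.FormallySmooth.liftOfSurjective_apply (lifts J θ₀ n)
    (Ideal.Quotient.factorₐ A
      (Ideal.pow_le_pow_right (Nat.le_succ (n + 1)) : J ^ (n + 1 + 1) ≤ J ^ (n + 1)))
    (Ideal.Quotient.factor_surjective
      (Ideal.pow_le_pow_right (Nat.le_succ (n + 1)) : J ^ (n + 1 + 1) ≤ J ^ (n + 1)))
    (isNilpotent_ker_factor (A := A) J n) t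

end Tower

/-- Compatible lifts of a map of standard smooth algebras. -/
theorem exists_formal_lift {A B C D : Type u} [CommRing A] [CommRing B] [CommRing C] [CommRing D]
    (π : A →+* B) (hπ : Function.Surjective π) (βC : B →+* C) (hC : βC.IsStandardSmooth)
    (βD : B →+* D) (hD : βD.IsStandardSmooth) (φ : C →+* D)
    (hφ : φ.comp (βC.comp π) = βD.comp π) :
    ∃ (T : Type u) (_ : CommRing T) (R : Type u) (_ : CommRing R)
      (gT : A →+* T) (gR : A →+* R) (ψT : T →+* C) (ψR : R →+* D),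
      gT.Smooth ∧ gR.Smooth ∧ Function.Surjective ψT ∧ Function.Surjective ψR ∧
      RingHom.ker ψT = (RingHom.ker π).map gT ∧ RingHom.ker ψR = (RingHom.ker π).map gR ∧
      ψT.comp gT = βC.comp π ∧ ψR.comp gR = βD.comp π ∧
      ∃ θ : ∀ n : ℕ, (T ⧸ (RingHom.ker π).map gT ^ (n + 1)) →+* R ⧸ (RingHom.ker π).map gR ^ (n + 1),
        (∀ n a, θ n (Ideal.Quotient.mk _ (gT a)) = Ideal.Quotient.mk _ (gR a)) ∧
        (∀ n x, Ideal.Quotient.factor (Ideal.pow_le_pow_right (Nat.le_succ (n + 1)) :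
            (RingHom.ker π).map gR ^ (n + 1 + 1) ≤ (RingHom.ker π).map gR ^ (n + 1))
              (θ (n + 1) (Ideal.Quotient.mk _ x)) = θ n (Ideal.Quotient.mk _ x)) ∧
        ∀ (x : T) (r : R), θ 0 (Ideal.Quotient.mk _ x) = Ideal.Quotient.mk _ r →
          ψR r = φ (ψT x) := by
  obtain ⟨T, _, gT, ψT, hgT, hsT, hkT, hcT⟩ := exists_lift_hom π hπ βC hC
  obtain ⟨R, _, gR, ψR, hgR, hsR, hkR, hcR⟩ := exists_lift_hom π hπ βD hD
  algebraize [gT, gR]
  have : Algebra.Smooth A T := RingHom.smooth_algebraMap.mp hgT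
  let J := (RingHom.ker π).map gR
  have hJ : J ^ (0 + 1) = RingHom.ker ψR := by rw [hkR]; exact pow_one _
  let e : R ⧸ J ^ (0 + 1) ≃+* D :=
    (Ideal.quotEquivOfEq hJ).trans (RingHom.quotientKerEquivOfSurjective hsR)
  have he : ∀ r, e (Ideal.Quotient.mk _ r) = ψR r := fun r => rfl
  let θ₀ : T →ₐ[A] R ⧸ J ^ (0 + 1) :=
    { e.symm.toRingHom.comp (φ.comp ψT) with
      commutes' := fun a => by
        apply e.injective
        change e (e.symm (φ (ψT (gT a)))) = e (Ideal.Quotient.mk _ (gR a))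
        rw [RingEquiv.apply_symm_apply, he]
        exact (congrArg φ (RingHom.congr_fun hcT a)).trans
          ((RingHom.congr_fun hφ a).trans (RingHom.congr_fun hcR a).symm) }
  have hkill : ∀ n : ℕ, (RingHom.ker π).map gT ^ (n + 1) ≤ RingHom.ker (lifts J θ₀ n).toRingHom := by
    intro n
    rw [← Ideal.map_pow, Ideal.map_le_iff_le_comap]
    intro a ha
    rw [Ideal.mem_comap, RingHom.mem_ker]
    change lifts J θ₀ n (algebraMap A T a) = 0
    rw [AlgHom.commutes]
    change Ideal.Quotient.mk _ (gR a) = 0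
    rw [Ideal.Quotient.eq_zero_iff_mem, ← Ideal.map_pow]
    exact Ideal.mem_map_of_mem _ ha
  refine ⟨T, inferInstance, R, inferInstance, gT, gR, ψT, ψR, hgT, hgR, hsT, hsR, hkT, hkR, hcT, hcR,
    fun n => Ideal.Quotient.lift _ (lifts J θ₀ n).toRingHom (fun x hx => hkill n hx),
    fun n a => (lifts J θ₀ n).commutes a, fun n x => factor_lifts J θ₀ n x, fun x r h => ?_⟩
  rw [← he r, ← h]
  change e (lifts J θ₀ 0 x) = _
  exact e.apply_symm_apply (φ (ψT x))

end Groth.Agent.FL92.AlgLift
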