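import Groth.Agent.H30.IdealLemmas
import Mathlib.AlgebraicGeometry.Morphisms.Smooth

/-!
# Formal spectra over the completion of a scheme along an ideal sheaf (helper92)

For an affine open `W` of `S` and an algebra `g : Γ(S, W) → R`, the formal spectrum of `R` along
`𝒥(W) R` is adic over the completion of `S` along `𝒥`; it is levelwise smooth when `g` is smooth.
-/

universe u

open CategoryTheory CategoryTheory.Limits AlgebraicGeometry

namespace Groth.Agent.FL92.SysMap

open Groth.Agent.H30.IdealLemmas Groth.Agent.Lib.Ideal.Comap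

variable {S : Scheme.{u}} (𝒥 : S.IdealSheafData) (W : S.affineOpens)

theorem comap_fromSpec :
    𝒥.comap W.2.fromSpec = FSch.idealSpec Γ(S, W.1) (𝒥.ideal W) := by
  apply Scheme.IdealSheafData.ext_of_isAffine
  have e : (⊤ : (Spec Γ(S, W.1)).Opens) ≤ W.2.fromSpec ⁻¹ᵁ W.1 :=
    W.2.fromSpec_preimage_self.ge
  rw [idealSpec_ideal_top]
  refine (ideal_comap W.2.fromSpec 𝒥 W ⟨⊤, isAffineOpen_top _⟩ e).trans ?_
  congr 2
  rw [Scheme.Hom.appLE, W.2.fromSpec_app_self, Category.assoc, ← Functor.map_comp]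
  exact (congrArg ((Scheme.ΓSpecIso Γ(S, W.1)).inv ≫ ·) (((Spec Γ(S, W.1)).presheaf).map_id _)).trans
    (Category.comp_id _)

variable {R : Type u} [CommRing R] (g : Γ(S, W.1) →+* R)

/-- The morphism `Spec R ⟶ S`. -/
noncomputable def toS : Spec (CommRingCat.of R) ⟶ S :=
  Spec.map (CommRingCat.ofHom g) ≫ W.2.fromSpec

theorem smooth_toS (hg : g.Smooth) : Smooth (toS W g) := by
  have : Smooth (Spec.map (CommRingCat.ofHom g)) :=
    (HasRingHomProperty.Spec_iff (P := @Smooth)).mpr hg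
  rw [toS]
  infer_instance

theorem comap_toS : 𝒥.comap (toS W g) = FSch.idealSpec R ((𝒥.ideal W).map g) := by
  rw [toS, Scheme.IdealSheafData.comap_comp, comap_fromSpec, comap_idealSpec]

theorem comap_pow_toS (n : ℕ) :
    (FSch.completionToX S 𝒥 n).ker.comap (toS W g) =
      (FSch.spfToSpec R ((𝒥.ideal W).map g) n).ker := by
  rw [ker_completionToX, comap_pow, comap_toS]
  exact (ker_specQuot R _ n).symm

theorem ker_le (n : ℕ) : (FSch.completionToX S 𝒥 n).ker ≤
    (FSch.spfToSpec R ((𝒥.ideal W).map g) n ≫ toS W g).ker := by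
  rw [← Scheme.IdealSheafData.map_ker, Scheme.IdealSheafData.le_map_iff_comap_le, comap_pow_toS]

/-- The level `n`. -/
noncomputable def app (n : ℕ) :
    (FSch.spf R ((𝒥.ideal W).map g)).X n ⟶ (FSch.completionAlong S 𝒥).X n :=
  IsClosedImmersion.lift (FSch.completionToX S 𝒥 n) _ (ker_le 𝒥 W g n)

theorem app_comp (n : ℕ) : app 𝒥 W g n ≫ FSch.completionToX S 𝒥 n =
    FSch.spfToSpec R ((𝒥.ideal W).map g) n ≫ toS W g :=
  IsClosedImmersion.lift_fac _ _ _

/-- The morphism of systems `spf R ⟶ completionAlong S 𝒥`. -/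
noncomputable def hom : FSch.spf R ((𝒥.ideal W).map g) ⟶ FSch.completionAlong S 𝒥 :=
  ⟨app 𝒥 W g, fun n => by
    rw [← cancel_mono (FSch.completionToX S 𝒥 (n + 1)), Category.assoc, Category.assoc,
      completionToX_comp, app_comp, app_comp, ← Category.assoc]
    exact congrArg (· ≫ toS W g) (CohB1.specQuotTrans_specQuot _ n).symm⟩

theorem isPullback_app (n : ℕ) :
    IsPullback (FSch.spfToSpec R ((𝒥.ideal W).map g) n) (app 𝒥 W g n) (toS W g)
      (FSch.completionToX S 𝒥 n) :=
  have : IsClosedImmersion (FSch.spfToSpec R ((𝒥.ideal W).map g) n) :=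
    isClosedImmersion_specQuot R _ n
  isPullback_of_isClosedImmersion _ _ _ _ (app_comp 𝒥 W g n).symm (comap_pow_toS 𝒥 W g n)

theorem isAdicHom_hom : FSch.IsAdicHom (hom 𝒥 W g) := fun n => by
  refine IsPullback.of_right ?_ ((hom 𝒥 W g : FSch.Hom _ _).comm n).symm
    (isPullback_app 𝒥 W g (n + 1))
  rw [completionToX_comp]
  have h : (FSch.spf R ((𝒥.ideal W).map g)).ι n ≫ FSch.spfToSpec R ((𝒥.ideal W).map g) (n + 1) =
    FSch.spfToSpec R ((𝒥.ideal W).map g) n := CohB1.specQuotTrans_specQuot _ n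
  rw [h]
  exact isPullback_app 𝒥 W g n

theorem smooth_app (hg : g.Smooth) (n : ℕ) : Smooth ((hom 𝒥 W g : FSch.Hom _ _).app n) :=
  MorphismProperty.of_isPullback (isPullback_app 𝒥 W g n) (smooth_toS W g hg)

end Groth.Agent.FL92.SysMap
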